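import Cfsg.Agent.Lib.POmegaTriality.OutHigh

/-!
# `Out PΩ⁺₈(q)`
-/

set_option autoImplicit false

namespace Cfsg.Agent.Lib.POmegaTriality

open QuadraticMap Matrix POmegaAut POmegaField POmegaClass

variable {F : Type*} [Field F]

local notation "V" => Fin 4 ⊕ Fin 4 → F
local notation "Qo" => Classical.plusForm 4 F

theorem kSim_eq : kSim F = isoSim (r1 F (le_refl 4)) := by
  refine congrArg isoSim (Orth.refl_congr _ _ ?_)
  funext k
  rcases k with k | k <;> fin_cases k <;> simp [oone, v1, uv]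

theorem outProj_kAut : outProj (Qo) (kAut F) = rCls F (le_refl 4) := by rw [kAut, kSim_eq]; rfl

theorem omul_gmap (σ : F ≃+* F) (x y : V) :
    omul (fun k => σ (x k)) (fun k => σ (y k)) = fun k => σ (omul x y k) := by
  funext k; rcases k with k | k <;> fin_cases k <;> simp [omul]

variable [Fintype F]

/-- triality commutes with the field automorphisms -/
theorem triality_commute_fieldAut {τ : MulAut (Cfsg.POmega F ⇑(Qo))}
    (hτ : ∀ t : ↥(triples F), τ * π₀ F t * τ⁻¹ = π₁ F t) (σ : F ≃+* F) :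
    Commute (fieldAut σ (sigmaForm_plus (F := F) (m := 4) σ)) τ := by
  set Φ := fieldAut σ (sigmaForm_plus (F := F) (m := 4) σ)
  have hconj : ∀ (g g' : GO (Qo)), g'.1 = gmap σ g.1 → simAut g' = Φ * simAut g * Φ⁻¹ := fun g g' h => by
    rw [fieldAut_mul_simAut σ _ g g' h, mul_inv_cancel_right]
  refine MulEquiv.ext fun x => conj_injective0 (setting0_plus (F := F) (show 3 ≤ 4 by omega)) ?_
  obtain ⟨t, ht⟩ := inn_le_range (F := F) ⟨x, rfl⟩
  let L := liftSim (isRestriction_plus (F := F) (m := 4) σ.toRingHom)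
  let s : ↥(triples F) := ⟨(L t.1.1, L t.1.2.1, L t.1.2.2), fun v w => by
    obtain ⟨v, rfl⟩ : ∃ v' : V, (fun k => σ (v' k)) = v := ⟨fun k => σ.symm (v k), by simp⟩
    obtain ⟨w, rfl⟩ : ∃ w' : V, (fun k => σ (w' k)) = w := ⟨fun k => σ.symm (w k), by simp⟩
    have hL : ∀ (g : GO (Qo)) (u : V), sv (L g) (fun k => σ (u k)) = fun k => σ (sv g u k) :=
      fun g u => SPair.map_vec σ g.1 u
    show sv (L t.1.1) (omul _ _) = omul (sv (L t.1.2.1) _) (sv (L t.1.2.2) _)
    rw [omul_gmap, hL, hL, hL, omul_gmap, t.2]⟩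
  have e0 : π₀ F s = Φ * π₀ F t * Φ⁻¹ := hconj t.1.1 (L t.1.1) rfl
  have e1 : π₁ F s = Φ * π₁ F t * Φ⁻¹ := hconj t.1.2.1 (L t.1.2.1) rfl
  have h1 : π₁ F t = MulAut.conj (τ x) := by rw [← hτ, ht, conjMulAut_comm]
  have h2 : π₁ F s = MulAut.conj (τ (Φ x)) := by rw [← hτ, e0, ht, conjMulAut_comm, conjMulAut_comm]
  show MulAut.conj (Φ (τ x)) = MulAut.conj (τ (Φ x))
  rw [← h2, e1, h1, conjMulAut_comm]

/-- the generators of the outer classes -/
theorem exists_data {p f : ℕ} [Fact p.Prime] (hF : Fintype.card F = p ^ f) :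
    ∃ (τ : MulAut (Cfsg.POmega F ⇑(Qo))) (T Φ : Cfsg.Out (Cfsg.POmega F ⇑(Qo))),
      T = outProj (Qo) τ ∧ (∀ t : ↥(triples F), τ * π₀ F t * τ⁻¹ = π₁ F t) ∧ T * T = 1 ∧
      rCls F (le_refl 4) * T * rCls F (le_refl 4) = T * rCls F (le_refl 4) * T ∧ Φ ^ f = 1 ∧
      Commute Φ T ∧ Commute Φ (rCls F (le_refl 4)) ∧
      (∃ φ : F ≃+* F, (∀ x, φ x = x ^ p) ∧ Φ = outPair (Qo) (fieldPair φ (sigmaForm_plus φ))) ∧
      ∀ W : Subgroup (Cfsg.Out (Cfsg.POmega F ⇑(Qo))), (∀ g, outSim (Qo) g ∈ W) → T ∈ W →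
        ∀ y, ∃ a ∈ W, ∃ i : ℕ, y = a * Φ ^ i := by
  obtain ⟨τ, hinv, hbraid, hτ⟩ := exists_triality (F := F)
  obtain ⟨φ, hφ, hgen, hφf⟩ := exists_frob hF
  refine ⟨τ, _, _, rfl, hτ, by rw [← map_mul, hinv, map_one], ?_, outPair_pow_eq_one φ _ hφf,
    (triality_commute_fieldAut hτ φ).map (outProj (Qo)), commute_frob_rCls (le_refl 4) φ, ⟨φ, hφ, rfl⟩,
    fun W hW hT y => ?_⟩
  · rw [← outProj_kAut]; simp only [← map_mul]; rw [hbraid]
  obtain ⟨α, rfl⟩ := QuotientGroup.mk'_surjective _ y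
  have hnot : τ ∉ (SPair.autHom (Q := Qo)).range := fun ⟨q, hq⟩ => not_induced hτ q hq.symm
  rcases (three_cosets hnot).1 α with h | h | h <;> obtain ⟨g, i, hg⟩ := exists_outSim_mul0 φ (sigmaForm_plus φ) hgen h
  · exact ⟨_, hW g, i, hg⟩
  · exact ⟨outProj (Qo) τ * outSim (Qo) g, mul_mem hT (hW g), i, by
      rw [map_mul, map_inv, inv_mul_eq_iff_eq_mul] at hg
      rw [mul_assoc]; exact hg⟩
  · refine ⟨(outSim (Qo) (isoSim (rIso F)))⁻¹ * (outProj (Qo) τ * outSim (Qo) g),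
      mul_mem (inv_mem (hW _)) (mul_mem hT (hW g)), i, ?_⟩
    rw [map_mul, map_mul, map_inv, mul_assoc, inv_mul_eq_iff_eq_mul] at hg
    rw [mul_assoc _ _ (_ ^ i), eq_inv_mul_iff_mul_eq, mul_assoc]
    exact hg

section hom

variable {G : Type*} [Group G] {K T : G}

/-- the symmetric group of degree three at two involutions with the braid relation -/
noncomputable def braidHom (hK : K * K = 1) (hT : T * T = 1) (hb : K * T * K = T * K * T) : DihedralGroup 3 →* G :=
  dihedralHom (K * T) K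
    (by rw [show K * T = K * T from rfl, pow_succ, _root_.sq]
        calc K * T * (K * T) * (K * T) = (K * T * K) * (T * K * T) := by simp only [mul_assoc]
          _ = (T * K * T) * (T * K * T) := by rw [hb]
          _ = 1 := by simp only [mul_assoc]; rw [← mul_assoc T T, hT, one_mul, ← mul_assoc K K, hK, one_mul, hT])
    hK (by rw [_root_.mul_inv_rev, inv_eq_of_mul_eq_one_right hT, inv_eq_of_mul_eq_one_right hK, ← mul_assoc, hK,
      one_mul])

theorem mem_braidHom_range (hK : K * K = 1) (hT : T * T = 1) (hb : K * T * K = T * K * T) :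
    K ∈ (braidHom hK hT hb).range ∧ T ∈ (braidHom hK hT hb).range := by
  have h0 : K ∈ (braidHom hK hT hb).range := ⟨DihedralGroup.sr 0, by
    show K * zmodPow (n := 3) (K * T) _ (Multiplicative.ofAdd 0) = K
    rw [ofAdd_zero, map_one (zmodPow (n := 3) (K * T) _), mul_one]⟩
  refine ⟨h0, DihedralGroup.sr 1, ?_⟩
  show K * zmodPow (n := 3) (K * T) _ (Multiplicative.ofAdd 1) = T
  rw [zmodPow_one _ _ (by norm_num), ← mul_assoc, hK, one_mul]

theorem braidHom_range_le (hK : K * K = 1) (hT : T * T = 1) (hb : K * T * K = T * K * T) {W : Subgroup G}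
    (h1 : K ∈ W) (h2 : T ∈ W) : (braidHom hK hT hb).range ≤ W := by
  rintro _ ⟨i | i, rfl⟩
  exacts [pow_mem (mul_mem h1 h2) _, mul_mem h1 (pow_mem (mul_mem h1 h2) _)]

end hom

theorem nonempty_dihedral_three : Nonempty (DihedralGroup 3 ≃* Equiv.Perm (Fin 3)) := by
  let ψ := braidHom (K := Equiv.swap (0 : Fin 3) 1) (T := Equiv.swap (1 : Fin 3) 2) (by decide) (by decide) (by decide)
  refine ⟨MulEquiv.ofBijective ψ ((Nat.bijective_iff_surjective_and_card _).2 ⟨?_, by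
    rw [DihedralGroup.nat_card, Nat.card_perm, Nat.card_fin]; rfl⟩)⟩
  rw [← MonoidHom.range_eq_top, eq_top_iff, ← Equiv.Perm.closure_isSwap, Subgroup.closure_le]
  rintro _ ⟨a, b, hab, rfl⟩
  obtain ⟨h1, h2⟩ := mem_braidHom_range (K := Equiv.swap (0 : Fin 3) 1) (T := Equiv.swap (1 : Fin 3) 2) (by decide)
    (by decide) (by decide)
  have h3 := mul_mem (mul_mem h1 h2) h1
  have hall : ∀ x y : Fin 3, x ≠ y → Equiv.swap x y = Equiv.swap 0 1 ∨ Equiv.swap x y = Equiv.swap 1 2 ∨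
      Equiv.swap x y = Equiv.swap 0 1 * Equiv.swap 1 2 * Equiv.swap 0 1 := by decide
  rcases hall a b hab with h | h | h <;> rw [h]
  exacts [h1, h2, h3]

/-- even `q` -/
theorem out_four_even {f : ℕ} (hf : 1 ≤ f) (hF : Fintype.card F = 2 ^ f) :
    Nonempty (Cfsg.Out (Cfsg.POmega F ⇑(Qo)) ≃* Equiv.Perm (Fin 3) × Multiplicative (ZMod f)) := by
  haveI : Fact (Nat.Prime 2) := ⟨Nat.prime_two⟩
  haveI : CharP F 2 := charP_of_card_eq_prime_pow hF
  obtain ⟨τ, T, Φ, -, -, hT, hb, hΦ, hΦT, hΦK, -, hgen⟩ := exists_data hF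
  have hK := rCls_mul_self (F := F) (le_refl 4)
  obtain ⟨mK, mT⟩ := mem_braidHom_range hK hT hb
  have gen : ∀ y, ∃ z, ∃ i : ℕ, y = braidHom hK hT hb z * Φ ^ i := fun y => by
    obtain ⟨_, ⟨z, rfl⟩, i, h⟩ := hgen (braidHom hK hT hb).range (fun g => by
      rcases outSim_even (le_refl 4) g with h | h <;> rw [h]
      exacts [one_mem _, mK]) mT y
    exact ⟨z, i, h⟩
  have hcomm : ∀ z, Commute (braidHom hK hT hb z) Φ := fun z =>
    (Subgroup.mem_centralizer_singleton_iff.1 (braidHom_range_le hK hT hb (W := Subgroup.centralizer {Φ})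
      (Subgroup.mem_centralizer_singleton_iff.2 hΦK.symm.eq) (Subgroup.mem_centralizer_singleton_iff.2 hΦT.symm.eq)
      ⟨z, rfl⟩))
  obtain ⟨E⟩ := nonempty_equiv_prod hf _ Φ hΦ hcomm gen (by
    rw [natCard_out_plus hF (le_refl 4), if_pos rfl, if_pos rfl, DihedralGroup.nat_card])
  obtain ⟨e3⟩ := nonempty_dihedral_three
  exact ⟨E.trans (MulEquiv.prodCongr e3 (MulEquiv.refl _))⟩

theorem exists_square_spinor (h2 : (2 : F) ≠ 0) {n : Fˣ} (hn : ¬ IsSquare (n : F))
    {τ : MulAut (Cfsg.POmega F ⇑(Qo))} (hτ : ∀ t : ↥(triples F), τ * π₀ F t * τ⁻¹ = π₁ F t) :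
    outProj (Qo) τ * sCls (le_refl 4) n * (outProj (Qo) τ)⁻¹ = dCls n ∨
      outProj (Qo) τ * sCls (le_refl 4) n * (outProj (Qo) τ)⁻¹ = sCls (le_refl 4) n * dCls n := by
  have S := setting0_plus (F := F) (show 3 ≤ 4 by omega)
  set a : V := (pSim n).1.val *ᵥ v1 (le_refl 4)
  have hqa : Qo a = n := by rw [pSim_form, form_v1, mul_one]
  have hqa0 : Qo a ≠ 0 := by rw [hqa]; exact n.ne_zero
  obtain ⟨t, h0, h1, -⟩ := exists_moufang a hqa0
  set r := Orth.refl (Qo) oone Qo_oone_ne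
  set o := Orth.refl (Qo) a hqa0 * r
  have ho : simAut t.1.1 = simAut (isoSim o) := by
    rw [show t.1.1 = SPair.scalarSim (Units.mk0 _ hqa0) * isoSim o from sv_ext fun v => by
      rw [sv_mul, sv_scalar, map_mul, sv_mul, show sv (isoSim r) v = -oconj v from sv_kSim v, sv_refl hqa0, h0,
        omul_omul_self, polar_neg_right, Units.val_mk0, mul_neg, neg_smul, sub_neg_eq_add, smul_add, smul_neg,
        smul_smul, mul_inv_cancel_left₀ hqa0]
      abel, simAut_scalar_mul]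
  have hd : Orth.detSign (Qo) h2 plusForm_nondegenerate o = 1 := by
    rw [map_mul, Orth.detSign_refl, Orth.detSign_refl, Int.units_mul_self]
  have hcls : outProj (Qo) (π₀ F t) = sCls (le_refl 4) n := by
    rw [π₀_apply, ho, show outProj (Qo) (simAut (isoSim o)) = outSim (Qo) (isoSim o) from rfl,
      outSim_proper h2 (le_refl 4) hn o hd, if_neg]
    rw [map_mul, Orth.spinor_refl_of_not_isSquare h2 _ (by rw [hqa]; exact hn),
      Orth.spinor_refl_of_isSquare h2 _ (by rw [Qo_oone]; exact IsSquare.one), one_mul]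
    decide
  rw [show outProj (Qo) τ * sCls (le_refl 4) n * (outProj (Qo) τ)⁻¹ = outSim (Qo) t.1.2.1 by
    rw [← hcls, ← map_inv, ← map_mul, ← map_mul, hτ, π₁_apply]; rfl]
  refine (outSim_char_one h2 (le_refl 4) hn t.1.2.1 ?_).2 ?_
  · obtain ⟨u, hu, hue⟩ := conj_mem_ker_map (m := 4) le_rfl τ
      (g := π₀ F t) ⟨isoSim o, by
        show plusChar 4 F (isoSim o) = 1
        rw [plusChar_iso h2 (by omega), hd], ho.symm⟩
    rw [hτ, π₁_apply] at hue
    obtain ⟨c, hc⟩ := (simAut_eq_one_iff0 S (t.1.2.1 * u⁻¹)).1 (by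
      rw [map_mul, map_inv, hue, mul_inv_cancel])
    rw [eq_mul_of_mul_inv_eq hc, map_mul, plusChar_scalarSim, one_mul]
    exact hu
  · rw [mult0_eq S t.1.2.1 (c := (n : F)) fun v => by
      show Qo (sv t.1.2.1 v) = _
      rw [h1, Qo_omul, hqa]]
    exact hn

/-- odd `q` -/
theorem out_four_odd {p f : ℕ} [Fact p.Prime] (hf : 1 ≤ f) (hF : Fintype.card F = p ^ f) (hp : p ≠ 2) :
    Nonempty (Cfsg.Out (Cfsg.POmega F ⇑(Qo)) ≃* Equiv.Perm (Fin 4) × Multiplicative (ZMod f)) := by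
  classical
  have hpodd : Odd p := (Fact.out : p.Prime).eq_two_or_odd'.resolve_left hp
  have h2 : (2 : F) ≠ 0 := Classical.two_ne_zero_of_odd_card (by rw [hF]; exact hpodd.pow)
  obtain ⟨n, hn⟩ := exists_nonsquare_unit (F := F) h2
  obtain ⟨τ, T, Φ, hTdef, hτ, hT, hb, hΦ, hΦT, hΦK, ⟨φ, hφ, hΦdef⟩, hgen⟩ := exists_data hF
  have hK := rCls_mul_self (F := F) (le_refl 4)
  have hS := sCls_mul_self h2 (le_refl 4) hn
  have hSK : Commute (sCls (le_refl 4) n) (rCls F (le_refl 4)) := commute_sCls_rCls h2 (le_refl 4) hn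
  have hSD : Commute (sCls (le_refl 4) n) (dCls (m := 4) n) := commute_sCls_dCls h2 (le_refl 4) hn
  have hD : dCls (m := 4) n * dCls n = 1 := by rw [dCls_mul_self h2 (le_refl 4) hn, if_pos (by decide)]
  have hΦD : Commute Φ (dCls (m := 4) n) := by
    refine mul_inv_eq_iff_eq_mul.1 ?_
    rw [hΦdef, frob_dCls h2 (le_refl 4) hn hpodd φ hφ, if_pos (Even.isSquare_pow (by decide) _), mul_one]
  set K := rCls F (le_refl 4) with hKdef
  set S := sCls (le_refl 4) n with hSdef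
  set D := dCls (m := 4) n with hDdef
  have hKDK : K * D * K⁻¹ = S * D := by rw [hSdef, sCls, ← hKdef, ← hDdef, inv_mul_cancel_right]
  set E := T * S * T⁻¹ with hEdef
  have hE' : E = D ∨ E = S * D := by rw [hEdef, hTdef]; exact exists_square_spinor h2 hn hτ
  have hKi : K⁻¹ = K := inv_eq_of_mul_eq_one_right hK
  have hTi : T⁻¹ = T := inv_eq_of_mul_eq_one_right hT
  have hKS : K * S * K⁻¹ = S := mul_inv_eq_iff_eq_mul.2 hSK.symm.eq
  have hSE : Commute S E := by
    rcases hE' with h | h <;> rw [h]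
    exacts [hSD, (Commute.refl S).mul_right hSD]
  have hKE : K * E * K⁻¹ = S * E := by
    rcases hE' with h | h <;> rw [h]
    · exact hKDK
    · calc K * (S * D) * K⁻¹ = (K * S * K⁻¹) * (K * D * K⁻¹) := by group
        _ = S * (S * D) := by rw [hKS, hKDK]
  have hTE : T * E * T⁻¹ = S := by
    rw [hEdef, hTi]
    simp only [mul_assoc, hT, mul_one]
    rw [← mul_assoc, hT, one_mul]
  have hE : E * E = 1 := by
    rw [hEdef]
    calc T * S * T⁻¹ * (T * S * T⁻¹) = T * (S * S) * T⁻¹ := by group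
      _ = 1 := by rw [hS, mul_one, mul_inv_cancel]
  have hΦS : Commute Φ S := by
    rw [hSdef, sCls, ← hKdef, ← hDdef]
    exact ((hΦK.mul_right hΦD).mul_right hΦK.inv_right).mul_right hΦD.inv_right
  have hΦE : Commute Φ E := (hΦT.mul_right hΦS).mul_right hΦT.inv_right
  let k := (zmodPow (n := 2) S (by rw [_root_.sq, hS])).noncommCoprod (zmodPow (n := 2) E (by rw [_root_.sq, hE]))
    fun a b => hSE.pow_pow _ _
  have kS : k (Multiplicative.ofAdd (1 : ZMod 2), 1) = S := by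
    show zmodPow (n := 2) S _ (Multiplicative.ofAdd (1 : ZMod 2)) * zmodPow (n := 2) E _ 1 = S
    rw [map_one (zmodPow (n := 2) E _), mul_one, zmodPow_one _ _ one_lt_two]
  have kE : k (1, Multiplicative.ofAdd (1 : ZMod 2)) = E := by
    show zmodPow (n := 2) S _ 1 * zmodPow (n := 2) E _ (Multiplicative.ofAdd (1 : ZMod 2)) = E
    rw [map_one (zmodPow (n := 2) S _), one_mul, zmodPow_one _ _ one_lt_two]
  set N := k.range
  have mS : S ∈ N := ⟨_, kS⟩
  have mE : E ∈ N := ⟨_, kE⟩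
  have hN4 : Nat.card N ≤ 4 := by
    refine (Nat.card_le_card_of_surjective k.rangeRestrict k.rangeRestrict_surjective).trans ?_
    rw [Nat.card_prod, Nat.card_congr Multiplicative.toAdd, Nat.card_zmod]
  obtain ⟨mK, mT⟩ := mem_braidHom_range hK hT hb
  set ψ := braidHom hK hT hb with hψdef
  set H := ψ.range
  have hH6 : Nat.card H ≤ 6 := by
    refine (Nat.card_le_card_of_surjective ψ.rangeRestrict ψ.rangeRestrict_surjective).trans ?_
    rw [DihedralGroup.nat_card]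
  have hnorm : H ≤ Subgroup.normalizer (N : Set _) := by
    have key : ∀ x, x⁻¹ = x → x * S * x⁻¹ ∈ N → x * E * x⁻¹ ∈ N → x ∈ Subgroup.normalizer (N : Set _) := by
      intro x hx h1 h2
      have h : ∀ w ∈ N, x * w * x⁻¹ ∈ N := by
        rintro _ ⟨⟨a, b⟩, rfl⟩
        show x * (S ^ _ * E ^ _) * x⁻¹ ∈ N
        rw [← conj_mul, ← conj_pow, ← conj_pow]
        exact mul_mem (pow_mem h1 _) (pow_mem h2 _)
      refine Subgroup.mem_normalizer_iff.2 fun w => ⟨h w, fun hw => ?_⟩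
      have := h _ hw
      rw [hx] at this
      rwa [show x * (x * w * x) * x = w by
        have hxx : x * x = 1 := by nth_rw 1 [← hx]; exact inv_mul_cancel x
        simp only [mul_assoc, hxx, mul_one]; rw [← mul_assoc, hxx, one_mul]] at this
    exact braidHom_range_le hK hT hb (key K hKi (hKS.symm ▸ mS) (hKE.symm ▸ mul_mem mS mE))
      (key T hTi (hEdef ▸ mE) (hTE.symm ▸ mS))
  set W := N ⊔ H with hWdef
  have hWset : ∀ w, w ∈ W ↔ ∃ a ∈ N, ∃ b ∈ H, w = a * b := fun w => by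
    rw [← SetLike.mem_coe, hWdef, Subgroup.coe_mul_of_right_le_normalizer_left N H hnorm, Set.mem_mul]
    exact ⟨fun ⟨a, ha, b, hb, e⟩ => ⟨a, ha, b, hb, e.symm⟩, fun ⟨a, ha, b, hb, e⟩ => ⟨a, ha, b, hb, e.symm⟩⟩
  let μ : ↥N × ↥H → ↥W := fun z => ⟨z.1 * z.2, (hWset _).2 ⟨_, z.1.2, _, z.2.2, rfl⟩⟩
  have hμs : Function.Surjective μ := fun w => by
    obtain ⟨a, ha, b, hb, e⟩ := (hWset _).1 w.2
    exact ⟨(⟨a, ha⟩, ⟨b, hb⟩), Subtype.ext e.symm⟩
  have hmu_le : Nat.card W ≤ Nat.card N * Nat.card H := by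
    rw [← Nat.card_prod]; exact Nat.card_le_card_of_surjective μ hμs
  have mD : D ∈ N := by
    rcases hE' with h | h
    · exact h ▸ mE
    · have := mul_mem mS (h ▸ mE)
      rwa [← mul_assoc, hS, one_mul] at this
  have hWsim : ∀ g, outSim (Qo) g ∈ W := fun g =>
    outSim_mem h2 (le_refl 4) hn (Subgroup.mem_sup_right mK) (Subgroup.mem_sup_left mS) (Subgroup.mem_sup_left mD) g
  have gen : ∀ y, ∃ w : ↥W, ∃ i : ℕ, y = W.subtype w * Φ ^ i := fun y => by
    obtain ⟨w, hw, i, h⟩ := hgen W hWsim (Subgroup.mem_sup_right mT) y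
    exact ⟨⟨w, hw⟩, i, h⟩
  have hcardO : Nat.card (Cfsg.Out (Cfsg.POmega F ⇑(Qo))) = 24 * f := by
    rw [natCard_out_plus hF (le_refl 4), if_pos rfl, if_neg hp, if_pos (by
      rw [Nat.even_iff, show 4 * (p ^ f - 1) / 2 = 2 * (p ^ f - 1) by omega]; omega)]
  have hW24 : Nat.card W = 24 := by
    refine le_antisymm (hmu_le.trans (Nat.mul_le_mul hN4 hH6)) ?_
    haveI : NeZero f := ⟨by omega⟩
    have hsurj : Function.Surjective (fun z : ↥W × ZMod f => (z.1 : Cfsg.Out (Cfsg.POmega F ⇑(Qo))) * Φ ^ z.2.val) :=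
      fun y => by
        obtain ⟨w, i, rfl⟩ := gen y
        exact ⟨(w, (i : ZMod f)), by
          show _ * Φ ^ (i : ZMod f).val = _
          rw [ZMod.val_natCast, ← pow_eq_pow_mod _ hΦ]; rfl⟩
    have h := Nat.card_le_card_of_surjective _ hsurj
    rw [hcardO, Nat.card_prod, Nat.card_zmod] at h
    exact Nat.le_of_mul_le_mul_right h (by omega)
  have hμ : Function.Injective μ := ((Nat.bijective_iff_surjective_and_card μ).2 ⟨hμs, le_antisymm (by
    rw [Nat.card_prod, hW24]; exact Nat.mul_le_mul hN4 hH6) (by rw [Nat.card_prod]; exact hmu_le)⟩).1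
  have hcomm : ∀ w : ↥W, Commute (W.subtype w) Φ := fun w => by
    have hle : W ≤ Subgroup.centralizer {Φ} := sup_le
      (by
        rintro _ ⟨⟨a, b⟩, rfl⟩
        exact Subgroup.mem_centralizer_singleton_iff.2
          (Commute.mul_left (hΦS.symm.pow_left _) (hΦE.symm.pow_left _)))
      (braidHom_range_le hK hT hb (Subgroup.mem_centralizer_singleton_iff.2 hΦK.symm.eq)
        (Subgroup.mem_centralizer_singleton_iff.2 hΦT.symm.eq))
    exact Subgroup.mem_centralizer_singleton_iff.1 (hle w.2)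
  obtain ⟨Eq⟩ := nonempty_equiv_prod hf W.subtype Φ hΦ hcomm gen (by rw [hcardO, hW24])
  -- the action on the four cosets of `H`
  have hNH : Nat.card N = 4 ∧ Nat.card H = 6 := by
    rw [hW24] at hmu_le
    constructor <;> nlinarith [Nat.card_pos (α := N), Nat.card_pos (α := H)]
  set H' := H.subgroupOf W
  have hidx : H'.index = 4 := by
    have h := H'.card_mul_index
    rw [Nat.card_congr (Subgroup.subgroupOfEquivOfLe (le_sup_right : H ≤ W)).toEquiv, hNH.2, hW24] at h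
    omega
  haveI : Finite (↥W ⧸ H') := Nat.finite_of_card_ne_zero (by
    rw [show Nat.card (↥W ⧸ H') = H'.index from rfl, hidx]; omega)
  have kinj : Function.Injective k := by
    have h := (Nat.bijective_iff_surjective_and_card k.rangeRestrict).2 ⟨k.rangeRestrict_surjective, by
      rw [show Nat.card ↥k.range = 4 from hNH.1, Nat.card_prod, Nat.card_congr Multiplicative.toAdd, Nat.card_zmod]⟩
    exact fun a b e => h.1 (Subtype.ext e)
  have hS1 : S ≠ 1 := fun e => absurd (kinj ((kS.trans e).trans (map_one k).symm)) (by decide)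
  have hE1 : E ≠ 1 := fun e => absurd (kinj ((kE.trans e).trans (map_one k).symm)) (by decide)
  have hES : E ≠ S := fun e => absurd (kinj ((kE.trans e).trans kS.symm)) (by decide)
  have hfaith : ∀ g ∈ H, g * S * g⁻¹ = S → g * E * g⁻¹ = E → g = 1 := by
    rintro _ ⟨z, rfl⟩ e1 e2
    have xS : (K * T) * S * (K * T)⁻¹ = S * E := by
      rw [← hKE, hEdef]; group
    have xE : (K * T) * E * (K * T)⁻¹ = S := by
      calc (K * T) * E * (K * T)⁻¹ = K * (T * E * T⁻¹) * K⁻¹ := by group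
        _ = S := by rw [hTE, hKS]
    have x2S : (K * T) ^ 2 * S * ((K * T) ^ 2)⁻¹ = E := by
      calc (K * T) ^ 2 * S * ((K * T) ^ 2)⁻¹ = (K * T) * ((K * T) * S * (K * T)⁻¹) * (K * T)⁻¹ := by
            simp only [_root_.sq, _root_.mul_inv_rev, mul_assoc]
        _ = ((K * T) * S * (K * T)⁻¹) * ((K * T) * E * (K * T)⁻¹) := by
            conv_lhs => rw [xS]
            exact conj_mul.symm
        _ = E := by rw [xS, xE, hSE.eq, mul_assoc, hS, mul_one]
    rcases z with i | i <;> fin_cases i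
    · exact map_one ψ
    · change (K * T) ^ 1 * S * ((K * T) ^ 1)⁻¹ = S at e1
      rw [pow_one, xS] at e1
      exact absurd (mul_eq_left.1 e1) hE1
    · change (K * T) ^ 2 * S * ((K * T) ^ 2)⁻¹ = S at e1
      rw [x2S] at e1
      exact absurd e1 hES
    · change (K * (K * T) ^ 0) * E * (K * (K * T) ^ 0)⁻¹ = E at e2
      rw [pow_zero, mul_one, hKE] at e2
      exact absurd (mul_eq_right.1 e2) hS1
    · change (K * (K * T) ^ 1) * S * (K * (K * T) ^ 1)⁻¹ = S at e1
      rw [pow_one, ← mul_assoc, hK, one_mul, ← hEdef] at e1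
      exact absurd e1 hES
    · change (K * (K * T) ^ 2) * S * (K * (K * T) ^ 2)⁻¹ = S at e1
      rw [show (K * (K * T) ^ 2) * S * (K * (K * T) ^ 2)⁻¹ = K * ((K * T) ^ 2 * S * ((K * T) ^ 2)⁻¹) * K⁻¹ by group,
        x2S, hKE] at e1
      exact absurd (mul_eq_left.1 e1) hE1
  let act := MulAction.toPermHom ↥W (↥W ⧸ H')
  have hact : Function.Injective act := by
    rw [← MonoidHom.ker_eq_bot_iff, ← Subgroup.normalCore_eq_ker, Subgroup.eq_bot_iff_forall]
    intro g hg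
    have hgH : (g : Cfsg.Out (Cfsg.POmega F ⇑(Qo))) ∈ H := H'.normalCore_le hg
    have fix : ∀ c ∈ N, (g : Cfsg.Out (Cfsg.POmega F ⇑(Qo))) * c * (g : Cfsg.Out (Cfsg.POmega F ⇑(Qo)))⁻¹ = c := by
      intro c hc
      have hh : c * (g : Cfsg.Out (Cfsg.POmega F ⇑(Qo))) * c⁻¹ ∈ H :=
        H'.normalCore_le ((inferInstance : H'.normalCore.Normal).conj_mem g hg ⟨c, Subgroup.mem_sup_left hc⟩)
      have hm : c * ((g : Cfsg.Out (Cfsg.POmega F ⇑(Qo))) * c⁻¹ * (g : Cfsg.Out (Cfsg.POmega F ⇑(Qo)))⁻¹) ∈ N :=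
        mul_mem hc ((Subgroup.mem_normalizer_iff.1 (hnorm hgH) _).1 (inv_mem hc))
      have e := congrArg Prod.fst (hμ (a₁ := (⟨_, hm⟩, ⟨_, hgH⟩)) (a₂ := (1, ⟨_, hh⟩)) (Subtype.ext (by
        show c * _ * _ = 1 * _
        rw [one_mul]; group)))
      have e' : c * ((g : Cfsg.Out (Cfsg.POmega F ⇑(Qo))) * c⁻¹ * (g : Cfsg.Out (Cfsg.POmega F ⇑(Qo)))⁻¹) = 1 :=
        congrArg Subtype.val e
      rw [mul_eq_one_iff_inv_eq] at e'
      apply inv_injective
      rw [e']; group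
    exact Subtype.ext (hfaith _ hgH (fix S mS) (fix E mE))
  have hbij : Function.Bijective act := (Nat.bijective_iff_injective_and_card _).2 ⟨hact, by
    rw [hW24, Nat.card_perm, show Nat.card (↥W ⧸ H') = H'.index from rfl, hidx]; rfl⟩
  obtain ⟨e4⟩ : Nonempty ((↥W ⧸ H') ≃ Fin 4) :=
    ⟨Finite.equivFinOfCardEq (by rw [show Nat.card (↥W ⧸ H') = H'.index from rfl, hidx])⟩
  exact ⟨Eq.trans (MulEquiv.prodCongr ((MulEquiv.ofBijective act hbij).trans e4.permCongrHom) (MulEquiv.refl _))⟩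

end Cfsg.Agent.Lib.POmegaTriality
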